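import Mathlib.Analysis.InnerProductSpace.Basic
import Mathlib.Analysis.Normed.Module.FiniteDimension
import Mathlib.Algebra.Module.ZLattice.Basic
import Mathlib.LinearAlgebra.Basis.VectorSpace
import Mathlib.Topology.MetricSpace.HausdorffDistance
import Mathlib.Data.Int.GCD
import Mathlib.GroupTheory.Archimedean
import Mathlib.Analysis.Real.Sqrt

/-!
# Optimal destabilising lattice vectors
-/

namespace GrothLib.LatticeOpt

universe u

open scoped RealInnerProductSpace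
open Filter Topology

variable {E : Type u} [NormedAddCommGroup E] [InnerProductSpace ℝ E]

theorem inf'_smul {F : Finset (Module.Dual ℝ E)} (hF : F.Nonempty) {t : ℝ} (ht : 0 ≤ t) (v : E) :
    F.inf' hF (fun f => f (t • v)) = t * F.inf' hF (fun f => f v) := by
  obtain ⟨a, ha, he⟩ := F.exists_mem_eq_inf' hF (fun f => f v)
  refine le_antisymm ((F.inf'_le _ ha).trans (by rw [map_smul, smul_eq_mul, he])) (Finset.le_inf' _ _ fun f hf => ?_)
  rw [map_smul, smul_eq_mul]
  exact mul_le_mul_of_nonneg_left (F.inf'_le (fun f => f v) hf) ht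

theorem inf'_add_ge {F : Finset (Module.Dual ℝ E)} (hF : F.Nonempty) (v w : E) :
    F.inf' hF (fun f => f v) + F.inf' hF (fun f => f w) ≤ F.inf' hF (fun f => f (v + w)) :=
  Finset.le_inf' _ _ fun f hf => by
    rw [map_add]
    exact add_le_add (F.inf'_le (fun f => f v) hf) (F.inf'_le (fun f => f w) hf)

variable [FiniteDimensional ℝ E]
variable (F G : Finset (Module.Dual ℝ E))

/-- The polyhedron cut out by `f ≥ 0` and `g ≥ 1`. -/
def poly : Set E := {x | (∀ f ∈ F, 0 ≤ f x) ∧ ∀ g ∈ G, 1 ≤ g x}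

theorem isClosed_poly : IsClosed (poly F G) := by
  have : poly F G = (⋂ f ∈ F, {x : E | 0 ≤ f x}) ∩ ⋂ g ∈ G, {x : E | 1 ≤ g x} := by
    ext x; simp [poly]
  rw [this]
  exact (isClosed_biInter fun f _ => isClosed_le continuous_const f.continuous_of_finiteDimensional).inter
    (isClosed_biInter fun g _ => isClosed_le continuous_const g.continuous_of_finiteDimensional)

/-- Minimal-norm points of a convex set are unique. -/
theorem eq_of_min {u w : E} (hu : ∀ x ∈ poly F G, ‖u‖ ≤ ‖x‖) (hu' : u ∈ poly F G) (hw : w ∈ poly F G)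
    (h : ‖w‖ ≤ ‖u‖) : w = u := by
  have hm : (1 / 2 : ℝ) • (u + w) ∈ poly F G := by
    refine ⟨fun f hf => ?_, fun g hg => ?_⟩
    · rw [map_smul, map_add, smul_eq_mul]
      linarith [hu'.1 f hf, hw.1 f hf]
    · rw [map_smul, map_add, smul_eq_mul]
      linarith [hu'.2 g hg, hw.2 g hg]
  have h1 := hu _ hm
  rw [norm_smul, Real.norm_eq_abs, abs_of_pos (by norm_num : (0 : ℝ) < 1 / 2)] at h1
  have h2 := parallelogram_law_with_norm ℝ u w
  have h3 : ‖u + w‖ * ‖u + w‖ ≥ (2 * ‖u‖) * (2 * ‖u‖) :=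
    mul_self_le_mul_self (by positivity) (by linarith)
  have h4 : ‖w‖ * ‖w‖ ≤ ‖u‖ * ‖u‖ := mul_self_le_mul_self (norm_nonneg _) h
  have h5 : ‖u - w‖ = 0 := by nlinarith [norm_nonneg (u - w), mul_self_nonneg ‖u - w‖]
  exact (sub_eq_zero.1 (norm_eq_zero.1 h5)).symm

variable (L : Submodule ℤ E) [DiscreteTopology L] [IsZLattice ℝ L]
variable (hint : ∀ x ∈ L, ∀ y ∈ L, ∃ n : ℤ, inner ℝ x y = (n : ℝ))
    (hFi : ∀ f ∈ F, ∀ x ∈ L, ∃ n : ℤ, f x = (n : ℝ)) (hGi : ∀ g ∈ G, ∀ x ∈ L, ∃ n : ℤ, g x = (n : ℝ))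

include hint hFi hGi in
/-- The minimal-norm point of the polyhedron has rational coordinates in a basis of the lattice. -/
theorem rational_min {ι : Type*} [Fintype ι] (b : Module.Basis ι ℝ E) (hb : ∀ i, b i ∈ L)
    {u : E} (hu : ∀ x ∈ poly F G, ‖u‖ ≤ ‖x‖) (hu' : u ∈ poly F G) :
    ∀ i, ∃ q : ℚ, b.repr u i = q := by
  classical
  -- kernel of the active constraints is orthogonal to `u`
  let Z : Submodule ℝ E :=
    (⨅ f ∈ F.filter (fun f => f u = 0), LinearMap.ker f) ⊓ ⨅ g ∈ G.filter (fun g => g u = 1), LinearMap.ker g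
  have horth : ∀ z ∈ Z, ⟪u, z⟫ = 0 := by
    intro z hz
    simp only [Z, Submodule.mem_inf, Submodule.mem_iInf, Finset.mem_filter, LinearMap.mem_ker, and_imp] at hz
    have hev : ∀ᶠ ε in 𝓝 (0 : ℝ), u + ε • z ∈ poly F G := by
      have hc : ∀ φ : Module.Dual ℝ E, Continuous fun ε : ℝ => φ (u + ε • z) := fun φ =>
        φ.continuous_of_finiteDimensional.comp (by fun_prop)
      refine ((Finset.eventually_all F).2 fun f hf => ?_).and ((Finset.eventually_all G).2 fun g hg => ?_)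
      · rcases (hu'.1 f hf).lt_or_eq with h | h
        · exact (((hc f).tendsto 0).eventually_const_lt (by simpa using h)).mono fun ε he => he.le
        · exact Filter.Eventually.of_forall fun ε => by simp [map_add, hz.1 f hf h.symm, h.symm]
      · rcases (hu'.2 g hg).lt_or_eq with h | h
        · exact (((hc g).tendsto 0).eventually_const_lt (by simpa using h)).mono fun ε he => he.le
        · exact Filter.Eventually.of_forall fun ε => by simp [map_add, hz.2 g hg h.symm, h.symm]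
    obtain ⟨δ, hδ, hball⟩ := Metric.eventually_nhds_iff.1 hev
    have hq : ∀ ε : ℝ, |ε| < δ → 0 ≤ 2 * ε * ⟪u, z⟫ + ε ^ 2 * ‖z‖ ^ 2 := fun ε hε => by
      have h1 : ‖u‖ ^ 2 ≤ ‖u + ε • z‖ ^ 2 :=
        pow_le_pow_left₀ (norm_nonneg _) (hu _ (hball (by simpa using hε))) 2
      rw [norm_add_sq_real, real_inner_smul_right, norm_smul, mul_pow, Real.norm_eq_abs, sq_abs] at h1
      linarith
    by_contra hne
    rcases eq_or_ne z 0 with rfl | hz0
    · exact hne (inner_zero_right u)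
    have hzpos : 0 < ‖z‖ ^ 2 := by positivity
    set a := ⟪u, z⟫
    have hη : 0 < min (δ / 2) (|a| / ‖z‖ ^ 2) := lt_min (by linarith) (div_pos (abs_pos.2 hne) hzpos)
    set η := min (δ / 2) (|a| / ‖z‖ ^ 2)
    have hη1 : η * ‖z‖ ^ 2 ≤ |a| := (le_div_iff₀ hzpos).1 (min_le_right _ _)
    have hη2 : η < δ := lt_of_le_of_lt (min_le_left _ _) (by linarith)
    rcases lt_or_gt_of_ne hne with h | h
    · have := hq η (by rwa [abs_of_pos hη])
      rw [abs_of_neg h] at hη1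
      nlinarith [mul_le_mul_of_nonneg_left hη1 hη.le, mul_pos hη (neg_pos.2 h)]
    · have := hq (-η) (by rwa [abs_neg, abs_of_pos hη])
      rw [abs_of_pos h] at hη1
      nlinarith [mul_le_mul_of_nonneg_left hη1 hη.le, mul_pos hη h]
  -- coordinatewise rational projections
  let bQ := Module.Basis.ofVectorSpace ℚ ℝ
  let push : (ℝ →ₗ[ℚ] ℚ) → E → E := fun π x => ∑ i, ((π (b.repr x i) : ℚ) : ℝ) • b i
  have hpush : ∀ (φ : Module.Dual ℝ E), (∀ i, ∃ n : ℤ, φ (b i) = n) → ∀ (π : ℝ →ₗ[ℚ] ℚ) x,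
      φ (push π x) = (π (φ x) : ℚ) := by
    intro φ hφ π x
    choose n hn using hφ
    conv_rhs => rw [← b.sum_repr x]
    simp only [push, map_sum, map_smul, smul_eq_mul, hn, Rat.cast_sum]
    refine Finset.sum_congr rfl fun i _ => ?_
    rw [mul_comm (b.repr x i), show ((n i : ℤ) : ℝ) * b.repr x i = (n i : ℚ) • b.repr x i by
      rw [Rat.smul_def, Rat.cast_intCast], map_smul, smul_eq_mul]
    push_cast
    ring
  -- a projection fixing `1`
  obtain ⟨π, hπ⟩ : ∃ π : ℝ →ₗ[ℚ] ℚ, π 1 = 1 := by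
    obtain ⟨a, ha⟩ : ∃ a, bQ.repr 1 a ≠ 0 := by
      by_contra h
      push Not at h
      exact one_ne_zero (bQ.repr.injective (Finsupp.ext fun a => by simp [h a]) : (1 : ℝ) = 0)
    exact ⟨(bQ.repr 1 a)⁻¹ • bQ.coord a, by
      simp only [LinearMap.smul_apply, Module.Basis.coord_apply, smul_eq_mul, inv_mul_cancel₀ ha]⟩
  set u' := push π u
  have hFb : ∀ f ∈ F, ∀ i, ∃ n : ℤ, f (b i) = n := fun f hf i => hFi f hf _ (hb i)
  have hGb : ∀ g ∈ G, ∀ i, ∃ n : ℤ, g (b i) = n := fun g hg i => hGi g hg _ (hb i)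
  have hmem : u - u' ∈ Z := by
    simp only [Z, Submodule.mem_inf, Submodule.mem_iInf, Finset.mem_filter, LinearMap.mem_ker, and_imp]
    refine ⟨fun f hf h => ?_, fun g hg h => ?_⟩
    · rw [map_sub, h, hpush f (hFb f hf), h, map_zero]; simp
    · rw [map_sub, h, hpush g (hGb g hg), h, hπ]; simp
  have hperp : ∀ z ∈ Z, ⟪u', z⟫ = 0 := by
    intro z hz
    -- decompose `z` into rational vectors of `Z`
    let S := Finset.univ.biUnion fun i => (bQ.repr (b.repr z i)).support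
    have hdec : z = ∑ a ∈ S, (bQ a) • push (bQ.coord a) z := by
      simp only [push, Finset.smul_sum, smul_smul]
      rw [Finset.sum_comm]
      conv_lhs => rw [← b.sum_repr z]
      refine Finset.sum_congr rfl fun i _ => ?_
      rw [← Finset.sum_smul]
      refine congrArg (· • b i) ?_
      conv_lhs => rw [← bQ.linearCombination_repr (b.repr z i)]
      rw [Finsupp.linearCombination_apply, Finsupp.sum_of_support_subset _ (s := S)
        (Finset.subset_biUnion_of_mem (fun i => (bQ.repr (b.repr z i)).support) (Finset.mem_univ i))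
        (fun a (c : ℚ) => c • bQ a) (fun a _ => zero_smul _ _)]
      refine Finset.sum_congr rfl fun a _ => ?_
      rw [Rat.smul_def, Module.Basis.coord_apply, mul_comm]
    rw [hdec, inner_sum]
    refine Finset.sum_eq_zero fun a _ => ?_
    rw [inner_smul_right]
    refine mul_eq_zero_of_right _ ?_
    have hw : push (bQ.coord a) z ∈ Z := by
      simp only [Z, Submodule.mem_inf, Submodule.mem_iInf, Finset.mem_filter, LinearMap.mem_ker, and_imp] at hz ⊢
      refine ⟨fun f hf h => ?_, fun g hg h => ?_⟩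
      · rw [hpush f (hFb f hf), hz.1 f hf h, map_zero]; simp
      · rw [hpush g (hGb g hg), hz.2 g hg h, map_zero]; simp
    have h0 := horth _ hw
    simp only [push, inner_sum, inner_smul_right] at h0 ⊢
    have key : ∀ i, ⟪u', b i⟫ = ((π ⟪u, b i⟫ : ℚ) : ℝ) := fun i => by
      have := hpush (innerₗ E (b i)) (fun j => hint _ (hb i) _ (hb j)) π u
      simpa [real_inner_comm] using this
    simp only [key]
    have h1 : ((π (∑ i, (bQ.coord a (b.repr z i) : ℚ) • ⟪u, b i⟫) : ℚ) : ℝ) = 0 := by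
      simp only [Rat.smul_def, h0, map_zero, Rat.cast_zero]
    simpa [map_sum, map_smul] using h1
  have heq : u = u' := sub_eq_zero.1 (inner_self_eq_zero (𝕜 := ℝ).1 (by
    rw [inner_sub_left, horth _ hmem, hperp _ hmem, sub_zero]))
  intro i
  refine ⟨π (b.repr u i), ?_⟩
  conv_lhs => rw [heq]
  simp [u', push, map_sum, map_smul, Finsupp.single_apply]

include hint hFi hGi in
theorem optimal (hF : F.Nonempty) (hG : G.Nonempty)
    (hpos : ∃ v : E, 0 ≤ F.inf' hF (fun f => f v) ∧ 0 < G.inf' hG (fun g => g v)) :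
    ∃ M : ℝ, IsGreatest ((fun v => G.inf' hG (fun g => g v) / ‖v‖) ''
        {v : E | v ≠ 0 ∧ 0 ≤ F.inf' hF (fun f => f v)}) M ∧
      ∃! v₀ : E, v₀ ∈ L ∧ v₀ ≠ 0 ∧ 0 ≤ F.inf' hF (fun f => f v₀) ∧
        G.inf' hG (fun g => g v₀) / ‖v₀‖ = M ∧
        ∀ v ∈ L, v ≠ 0 → 0 ≤ F.inf' hF (fun f => f v) → G.inf' hG (fun g => g v) / ‖v‖ = M →
          ∃ n : ℤ, v = n • v₀ := by
  classical
  have hscale : ∀ v : E, 0 ≤ F.inf' hF (fun f => f v) → 0 < G.inf' hG (fun g => g v) →
      (G.inf' hG (fun g => g v))⁻¹ • v ∈ poly F G := fun v h1 h2 => by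
    refine ⟨fun f hf => ?_, fun g hg => ?_⟩
    · rw [map_smul, smul_eq_mul]
      exact mul_nonneg (inv_nonneg.2 h2.le) (h1.trans (F.inf'_le (fun f => f v) hf))
    · rw [map_smul, smul_eq_mul, inv_mul_eq_div, one_le_div h2]
      exact G.inf'_le (fun g => g v) hg
  obtain ⟨v, hv1, hv2⟩ := hpos
  obtain ⟨u, hu', hdist⟩ := (isClosed_poly F G).exists_infDist_eq_dist ⟨_, hscale v hv1 hv2⟩ (0 : E)
  have hu : ∀ x ∈ poly F G, ‖u‖ ≤ ‖x‖ := fun x hx => by
    have := Metric.infDist_le_dist_of_mem (x := (0 : E)) hx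
    rwa [hdist, dist_zero_left, dist_zero_left] at this
  have huG : 1 ≤ G.inf' hG (fun g => g u) := Finset.le_inf' _ _ hu'.2
  have huF : 0 ≤ F.inf' hF (fun f => f u) := Finset.le_inf' _ _ hu'.1
  have hu0 : u ≠ 0 := fun h => by
    rw [h] at huG
    simp at huG
    linarith
  have hnu : 0 < ‖u‖ := norm_pos_iff.2 hu0
  set gu := G.inf' hG (fun g => g u)
  have hgpos : 0 < gu := zero_lt_one.trans_le huG
  have hbound : ∀ w : E, 0 ≤ F.inf' hF (fun f => f w) → 0 < G.inf' hG (fun g => g w) →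
      G.inf' hG (fun g => g w) / ‖w‖ ≤ 1 / ‖u‖ := fun w h1 h2 => by
    have := hu _ (hscale w h1 h2)
    rw [norm_smul, norm_inv, Real.norm_eq_abs, abs_of_pos h2, inv_mul_eq_div, le_div_iff₀ h2] at this
    have hw : 0 < ‖w‖ := lt_of_lt_of_le (mul_pos hnu h2) this
    rw [div_le_div_iff₀ hw hnu, one_mul]
    linarith
  have hM : gu / ‖u‖ = 1 / ‖u‖ := le_antisymm (hbound u huF hgpos) (by gcongr)
  refine ⟨1 / ‖u‖, ⟨⟨u, ⟨hu0, huF⟩, hM⟩, ?_⟩, ?_⟩
  · rintro _ ⟨w, ⟨hw0, hwF⟩, rfl⟩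
    rcases lt_or_ge 0 (G.inf' hG (fun g => g w)) with h | h
    · exact hbound w hwF h
    · exact (div_nonpos_of_nonpos_of_nonneg h (norm_nonneg _)).trans (by positivity)
  -- maximisers lie on the ray through `u`
  have hray : ∀ w : E, w ≠ 0 → 0 ≤ F.inf' hF (fun f => f w) → G.inf' hG (fun g => g w) / ‖w‖ = 1 / ‖u‖ →
      0 < G.inf' hG (fun g => g w) ∧ w = G.inf' hG (fun g => g w) • u := fun w hw0 hwF hw => by
    have hwn : 0 < ‖w‖ := norm_pos_iff.2 hw0
    have h2 : 0 < G.inf' hG (fun g => g w) := by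
      by_contra h
      have := div_nonpos_of_nonpos_of_nonneg (not_lt.1 h) hwn.le
      rw [hw] at this
      exact (div_pos one_pos hnu).not_ge this
    refine ⟨h2, ?_⟩
    have heq := eq_of_min F G hu hu' (hscale w hwF h2) (by
      rw [norm_smul, norm_inv, Real.norm_eq_abs, abs_of_pos h2, inv_mul_eq_div, div_le_iff₀ h2]
      rw [div_eq_div_iff hwn.ne' hnu.ne', one_mul] at hw
      linarith)
    rw [← heq, smul_smul, mul_inv_cancel₀ h2.ne', one_smul]
  -- a basis of the lattice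
  haveI : Module.Free ℤ L := ZLattice.module_free ℝ L
  haveI : Module.Finite ℤ L := ZLattice.module_finite ℝ L
  let b₀ := Module.Free.chooseBasis ℤ L
  let b := b₀.ofZLatticeBasis ℝ L
  have hb : ∀ i, b i ∈ L := fun i => by
    rw [Module.Basis.ofZLatticeBasis_apply]
    exact SetLike.coe_mem _
  have hcoord : ∀ w ∈ L, ∀ i, ∃ n : ℤ, b.repr w i = n := fun w hw i => by
    exact ⟨b₀.repr ⟨w, hw⟩ i, b₀.ofZLatticeBasis_repr_apply ℝ L ⟨w, hw⟩ i⟩
  choose q hq using rational_min F G L hint hFi hGi b hb hu hu'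
  let d : ℕ := ∏ i, (q i).den
  have hdpos : 0 < d := Finset.prod_pos fun i _ => (q i).den_pos
  have hdu : (d : ℝ) • u ∈ L := by
    conv => arg 2; rw [← b.sum_repr u, Finset.smul_sum]
    refine Submodule.sum_mem _ fun i _ => ?_
    obtain ⟨c, hc⟩ := Finset.dvd_prod_of_mem (fun i => (q i).den) (Finset.mem_univ i)
    have : (d : ℝ) * b.repr u i = (((q i).num * c : ℤ) : ℝ) := by
      rw [hq, show (d : ℝ) = ((q i).den : ℝ) * (c : ℝ) by rw [← Nat.cast_mul]; exact congrArg _ hc, Rat.cast_def]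
      push_cast
      field_simp
    rw [smul_smul, this, Int.cast_smul_eq_zsmul]
    exact Submodule.smul_mem _ _ (hb i)
  obtain ⟨i₀, hi₀⟩ : ∃ i, b.repr u i ≠ 0 := by
    by_contra h
    push Not at h
    exact hu0 (b.ext_elem fun i => by simp [h i])
  let T : AddSubgroup ℤ :=
    { carrier := {n | ((n : ℝ) / b.repr u i₀) • u ∈ L}
      zero_mem' := by simp
      add_mem' := fun {m n} hm hn => by
        simp only [Set.mem_setOf_eq] at hm hn ⊢
        rw [Int.cast_add, add_div, add_smul]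
        exact L.add_mem hm hn
      neg_mem' := fun {m} hm => by
        simp only [Set.mem_setOf_eq] at hm ⊢
        rw [Int.cast_neg, neg_div, neg_smul]
        exact L.neg_mem hm }
  have hTw : ∀ t : ℝ, t • u ∈ L → ∃ n ∈ T, t = (n : ℝ) / b.repr u i₀ := fun t ht => by
    obtain ⟨n, hn⟩ := hcoord _ ht i₀
    rw [map_smul, Finsupp.smul_apply, smul_eq_mul] at hn
    have : t = (n : ℝ) / b.repr u i₀ := by rw [← hn]; field_simp
    exact ⟨n, show ((n : ℝ) / b.repr u i₀) • u ∈ L by rwa [← this], this⟩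
  obtain ⟨a, ha⟩ := Int.subgroup_cyclic T
  rw [← AddSubgroup.zmultiples_eq_closure] at ha
  have haT : a ∈ T := ha ▸ AddSubgroup.mem_zmultiples a
  obtain ⟨n₁, hn₁, hd₁⟩ := hTw d hdu
  have ha0 : a ≠ 0 := fun h => by
    rw [ha, AddSubgroup.mem_zmultiples_iff] at hn₁
    obtain ⟨k, hk⟩ := hn₁
    rw [← hk, h, smul_zero, Int.cast_zero, zero_div] at hd₁
    exact hdpos.ne' (by exact_mod_cast hd₁)
  obtain ⟨t₀, ht₀, ht₀L, hall⟩ : ∃ t₀ : ℝ, 0 < t₀ ∧ t₀ • u ∈ L ∧ ∀ t : ℝ, t • u ∈ L → ∃ n : ℤ, t = n * t₀ := by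
    set c := (a : ℝ) / b.repr u i₀ with hc
    have hc0 : c ≠ 0 := div_ne_zero (by exact_mod_cast ha0) hi₀
    have hcL : c • u ∈ L := haT
    have hgen : ∀ t : ℝ, t • u ∈ L → ∃ n : ℤ, t = n * c := fun t ht => by
      obtain ⟨n, hn, rfl⟩ := hTw t ht
      rw [ha, AddSubgroup.mem_zmultiples_iff] at hn
      obtain ⟨k, rfl⟩ := hn
      exact ⟨k, by rw [hc, smul_eq_mul]; push_cast; ring⟩
    rcases hc0.lt_or_gt with h | h
    · refine ⟨-c, neg_pos.2 h, by rw [neg_smul]; exact L.neg_mem hcL, fun t ht => ?_⟩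
      obtain ⟨n, rfl⟩ := hgen t ht
      exact ⟨-n, by push_cast; ring⟩
    · exact ⟨c, h, hcL, hgen⟩
  have hv0 : t₀ • u ≠ 0 := smul_ne_zero ht₀.ne' hu0
  refine ⟨t₀ • u, ⟨ht₀L, hv0, ?_, ?_, fun w hwL hw0 hwF hwM => ?_⟩, ?_⟩
  · rw [inf'_smul hF ht₀.le]; exact mul_nonneg ht₀.le huF
  · rw [inf'_smul hG ht₀.le, norm_smul, Real.norm_eq_abs, abs_of_pos ht₀, mul_div_mul_left _ _ ht₀.ne']
    exact hM
  · obtain ⟨-, hwu⟩ := hray w hw0 hwF hwM
    obtain ⟨n, hn⟩ := hall _ (hwu ▸ hwL)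
    refine ⟨n, ?_⟩
    rw [hwu, hn, ← Int.cast_smul_eq_zsmul ℝ, smul_smul]
  · rintro w ⟨hwL, hw0, hwF, hwM, hwgen⟩
    obtain ⟨hwpos, hwu⟩ := hray w hw0 hwF hwM
    obtain ⟨m, hm⟩ := hall _ (hwu ▸ hwL)
    obtain ⟨n, hn⟩ := hwgen _ ht₀L hv0 (by rw [inf'_smul hF ht₀.le]; exact mul_nonneg ht₀.le huF) (by
      rw [inf'_smul hG ht₀.le, norm_smul, Real.norm_eq_abs, abs_of_pos ht₀, mul_div_mul_left _ _ ht₀.ne']
      exact hM)
    rw [hwu, hm, ← Int.cast_smul_eq_zsmul ℝ, smul_smul, ← sub_eq_zero, ← sub_smul, smul_eq_zero] at hn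
    have h1 : t₀ * (1 - (n : ℝ) * m) = 0 := by
      have := hn.resolve_right hu0
      linarith
    have h2 : (n * m : ℤ) = 1 := by
      have := (mul_eq_zero.1 h1).resolve_left ht₀.ne'
      exact_mod_cast (by push_cast; linarith : ((n * m : ℤ) : ℝ) = 1)
    have hmpos : (0 : ℝ) < m := by
      rw [hm] at hwpos
      exact pos_of_mul_pos_left hwpos ht₀.le
    have hm1 : m = 1 := by
      rcases Int.eq_one_or_neg_one_of_mul_eq_one (mul_comm n m ▸ h2) with h | h
      · exact h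
      · subst h
        norm_num at hmpos
    rw [hwu, hm, hm1, Int.cast_one, one_mul]

end GrothLib.LatticeOpt
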